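import Groth.Agent.Lib.OX.GeneratorBound
import Groth.Agent.Lib.OX.DQCohBrown
import Groth.Agent.Lib.OX.AffineApps
import Groth.Agent.Lib.OX.GammaDetect
import Groth.Agent.Lib.FunMor20.QAffClosure
import Groth.Agent.S7239

/-! # Basics for the cohomological bound of the coherator -/

set_option autoImplicit false
set_option backward.isDefEq.respectTransparency false
set_option linter.style.haveILetI false
set_option maxHeartbeats 1000000
universe u

open CategoryTheory CategoryTheory.Limits CategoryTheory.Pretriangulated AlgebraicGeometry TopologicalSpace Opposite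

attribute [local instance] HasDerivedCategory.standard

noncomputable section

namespace GrothLib.DQBound20

variable {X : Scheme.{u}}

/-- Vanishing of the cohomology sheaves outside `[a, b]`. -/
def Amp {V : Scheme.{u}} (F : DCoh.D V) (a b : ℤ) : Prop :=
  ∀ i : ℤ, (i < a ∨ b < i) → IsZero (DCoh.HD F i)

theorem Amp.mono {V : Scheme.{u}} {F : DCoh.D V} {a b a' b' : ℤ} (h : Amp F a b) (ha : a' ≤ a) (hb : b ≤ b') :
    Amp F a' b' := fun i hi => h i (by omega)

theorem exists_bound_RR {U : Scheme.{u}} (f : U ⟶ X) [IsOpenImmersion f] [QuasiCompact f] [CompactSpace X] :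
    ∃ N : ℕ, ∀ (F : DCoh.D U), DCoh.IsQCohD F → ∀ a b : ℤ, Amp F a b → Amp ((OX.RR f).obj F) a (b + N) := by
  letI : (OX.RR f).CommShift ℤ := (OX.resDAdj f).rightAdjointCommShift ℤ
  obtain ⟨M, hM⟩ := OX.exists_bound_Rres f
  refine ⟨M.toNat, fun F hF a b h i hi => ?_⟩
  rcases hi with hi | hi
  · haveI : F.IsGE a := (DerivedCategory.isGE_iff F _).2 fun j hj => h j (Or.inl hj)
    have h' : ((OX.RR f).obj F).IsGE a := @SiteDer.isGE_Rres _ _ _ _ _ _ _ _ (OX.rmor f) F a this
    exact DerivedCategory.isZero_of_isGE ((OX.RR f).obj F) a i hi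
  · have hle : (F⟦b⟧).IsLE 0 := (DerivedCategory.isLE_iff _ _).2 fun k hk =>
      (h (b + k) (by omega)).of_iso (OX.HDShiftIso F b k _ rfl)
    refine (hM _ (OX.isQCohD_shift hF b) hle (i - b) (by omega)).of_iso ?_
    exact (OX.HDShiftIso ((OX.RR f).obj F) b (i - b) i (by omega)).symm ≪≫
      (DerivedCategory.homologyFunctor X.Modules (i - b)).mapIso (((OX.RR f).commShiftIso b).app F).symm

/-- Gluing along finite unions of a class closed under intersections. -/
theorem sup_induction (P : X.Opens → Prop) (hbot : P ⊥) (hsup : ∀ A B, P A → P B → P (A ⊓ B) → P (A ⊔ B))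
    (C : X.Opens → Prop) (hC : ∀ A B, C A → C B → C (A ⊓ B)) (hPC : ∀ A, C A → P A) {ι : Type*} (s : Finset ι) :
    ∀ f : ι → X.Opens, (∀ i ∈ s, C (f i)) → P (s.sup f) := by
  classical
  induction s using Finset.induction_on with
  | empty => exact fun f _ => hbot
  | insert i s hi ih =>
    intro f hf
    rw [Finset.sup_insert]
    refine hsup _ _ (hPC _ (hf i (Finset.mem_insert_self i s))) (ih f fun j hj => hf j (Finset.mem_insert_of_mem hj)) ?_
    rw [Finset.sup_inf_distrib_left]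
    exact ih _ fun j hj => hC _ _ (hf i (Finset.mem_insert_self i s)) (hf j (Finset.mem_insert_of_mem hj))

variable (X) in
/-- A property of compact opens stable under gluing and true on affines holds on compact opens. -/
theorem compact_induction [CompactSpace X] [QuasiSeparatedSpace X] (P : X.Opens → Prop)
    (hsup : ∀ A B : X.Opens, IsCompact (A : Set X) → IsCompact (B : Set X) → P A → P B → P (A ⊓ B) → P (A ⊔ B))
    (haff : ∀ A, IsAffineOpen A → P A) : P ⊤ := by
  let P' : X.Opens → Prop := fun A => IsCompact (A : Set X) ∧ P A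
  have hbot : P' ⊥ := ⟨by simp, haff ⊥ (isAffineOpen_bot X)⟩
  have hsup' : ∀ A B, P' A → P' B → P' (A ⊓ B) → P' (A ⊔ B) := fun A B hA hB hI =>
    ⟨by simpa using hA.1.union hB.1, hsup A B hA.1 hB.1 hA.2 hB.2 hI.2⟩
  have step : ∀ U : X.Opens, IsAffineOpen U → ∀ A : X.Opens, A ≤ U → IsCompact (A : Set X) → P' A := by
    intro U hU A hAU hA
    obtain ⟨s, hs, hcov⟩ : ∃ s : Finset {f : Γ(X, U) // X.basicOpen f ≤ A}, (⊤ : Prop) ∧
        (A : Set X) ⊆ ⋃ f ∈ s, (X.basicOpen f.1 : Set X) := by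
      obtain ⟨s, hs⟩ := hA.elim_finite_subcover (fun f : {f : Γ(X, U) // X.basicOpen f ≤ A} => (X.basicOpen f.1 : Set X))
        (fun f => (X.basicOpen f.1).2) (fun x hx => by
          obtain ⟨f, hf, hxf⟩ := hU.exists_basicOpen_le ⟨x, hx⟩ (hAU hx)
          exact Set.mem_iUnion.2 ⟨⟨f, hf⟩, hxf⟩)
      exact ⟨s, trivial, hs⟩
    have he : s.sup (fun f => X.basicOpen f.1) = A := le_antisymm (Finset.sup_le fun f _ => f.2) fun x hx => by
      obtain ⟨f, hf, hxf⟩ := Set.mem_iUnion₂.1 (hcov hx)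
      exact (Finset.le_sup (f := fun f : {f : Γ(X, U) // X.basicOpen f ≤ A} => X.basicOpen f.1) hf) hxf
    rw [← he]
    exact sup_induction P' hbot hsup' (fun B => ∃ f : Γ(X, U), B = X.basicOpen f)
      (fun A B ⟨a, ha⟩ ⟨b, hb⟩ => ⟨a * b, by rw [X.basicOpen_mul, ha, hb]⟩)
      (fun A ⟨a, ha⟩ => ⟨ha ▸ (hU.basicOpen a).isCompact, haff _ (ha ▸ hU.basicOpen a)⟩) s _ (fun f _ => ⟨f.1, rfl⟩)
  obtain ⟨ι, _, T, hT, -, hTW⟩ := QCoh.exists_finite_affine_cover (X := X) (U := ⊤) isCompact_univ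
  have he : Finset.univ.sup T = ⊤ :=
    le_antisymm le_top (hTW.trans (iSup_le fun i ↦ Finset.le_sup (Finset.mem_univ i)))
  have := sup_induction P' hbot hsup' (fun A => IsCompact (A : Set X) ∧ ∃ U, IsAffineOpen U ∧ A ≤ U)
    (fun A B hA hB => ⟨QuasiSeparatedSpace.inter_isCompact _ _ A.2 hA.1 B.2 hB.1,
      hA.2.choose, hA.2.choose_spec.1, inf_le_left.trans hA.2.choose_spec.2⟩)
    (fun A ⟨hA, U, hU, hAU⟩ => step U hU A hAU hA) Finset.univ T (fun i _ => ⟨(hT i).isCompact, T i, hT i, le_rfl⟩)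
  exact he ▸ this.2

end GrothLib.DQBound20
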