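import Groth.Agent.Lib.DQBound20.Gen
import Groth.Agent.Lib.OX.MVTriangle
import Groth.Agent.Lib.OX.ClosedPush

/-! # The cohomological bound of the coherator -/

set_option autoImplicit false
set_option backward.isDefEq.respectTransparency false
set_option linter.style.haveILetI false
set_option maxHeartbeats 1000000
universe u

open CategoryTheory CategoryTheory.Limits CategoryTheory.Pretriangulated AlgebraicGeometry TopologicalSpace Opposite

attribute [local instance] HasDerivedCategory.standard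

noncomputable section

namespace GrothLib.DQBound20

variable {X : Scheme.{u}}

/-- The coherator. -/
def DQ (V : Scheme.{u}) [CompactSpace V] [QuasiSeparatedSpace V] : DCoh.D V ⥤ DCoh.DQCoh V :=
  haveI := Groth.Agent.S7239.result V
  (ObjectProperty.ι (DCoh.IsQCohD (X := V))).rightAdjoint

/-- Its adjunction. -/
def DQadj (V : Scheme.{u}) [CompactSpace V] [QuasiSeparatedSpace V] :
    ObjectProperty.ι (DCoh.IsQCohD (X := V)) ⊣ DQ V :=
  haveI := Groth.Agent.S7239.result V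
  Adjunction.ofIsLeftAdjoint _

/-- The coherator, valued in `D(O_V)`. -/
abbrev DQι (V : Scheme.{u}) [CompactSpace V] [QuasiSeparatedSpace V] : DCoh.D V ⥤ DCoh.D V :=
  DQ V ⋙ ObjectProperty.ι (DCoh.IsQCohD (X := V))

/-- Exactness of sections in degree `i` over all affine opens. -/
def Hyp (K : DCoh.D X) (i : ℤ) : Prop :=
  ∀ U : X.Opens, IsAffineOpen U → ∀ x : Γ(((KInj.res X.Modules).obj K).as.X i, U),
    (((KInj.res X.Modules).obj K).as.d i (i + 1)).app U x = 0 →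
      ∃ y, (((KInj.res X.Modules).obj K).as.d (i - 1) i).app U y = x

/-- Maps from the generator of an affine open immersion vanish under `Hyp`. -/
theorem hom_gen_eq_zero {V : Scheme.{u}} (j : V ⟶ X) [IsOpenImmersion j] (hj : IsAffineOpen j.opensRange)
    (K : DCoh.D X) (i : ℤ) (h : Hyp K i)
    (φ : (DerivedCategory.singleFunctor V.Modules i).obj ((OX.genF V).obj ⊤) ⟶ (OX.resD j).obj K) : φ = 0 := by
  let K0 := ((KInj.res X.Modules).obj K).as
  have hex : ∀ x : Γ(((OX.resCx j).obj K0).X i, ⊤),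
      (((OX.resCx j).obj K0).d i (i + 1)).app ⊤ x = 0 →
        ∃ y, (((OX.resCx j).obj K0).d (i - 1) i).app ⊤ y = x := by
    show ∀ x : Γ(K0.X i, j ''ᵁ ⊤), (K0.d i (i + 1)).app (j ''ᵁ ⊤) x = 0 →
      ∃ y, (K0.d (i - 1) i).app (j ''ᵁ ⊤) y = x
    rw [j.image_top_eq_opensRange]
    exact h _ hj
  let g := ((HomotopyCategory.singleFunctors V.Modules).functor i).obj ((OX.genF V).obj ⊤)
  let e : DerivedCategory.Qh.obj g ≅ (DerivedCategory.singleFunctor V.Modules i).obj ((OX.genF V).obj ⊤) := Iso.refl _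
  apply (cancel_epi e.hom).1
  rw [comp_zero]
  apply ((KInj.resAdj V.Modules).homEquiv g ((OX.resD j).obj K)).injective
  apply (cancel_mono ((OX.resRestrictIso j).app K).inv).1
  have h0 : ∀ ψ : g ⟶ (HomotopyCategory.quotient _ _).obj ((OX.resCx j).obj K0), ψ = 0 :=
    OX.eq_zero_of_exact_sections ⊤ _ i hex
  exact (h0 _).trans (h0 _).symm

/-- The affine case. -/
theorem amp_affine {V : Scheme.{u}} [IsAffine V] (j : V ⟶ X) [IsOpenImmersion j] (K : DCoh.D X) (a b : ℤ)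
    (h : ∀ i, (i < a ∨ b < i) → Hyp K i) : Amp ((DQι V).obj ((OX.resD j).obj K)) a b := by
  intro i hi
  have hj : IsAffineOpen j.opensRange := by
    rw [← j.image_top_eq_opensRange]
    exact (isAffineOpen_top V).image_of_isOpenImmersion j
  let Q := (DQ V).obj ((OX.resD j).obj K)
  haveI : (DCoh.HD Q.obj i).IsQuasicoherent := Q.property i
  have hs : Subsingleton Γ(DCoh.HD Q.obj i, ⊤) := subsingleton_of_forall_eq 0 fun s => by
    obtain ⟨φ, hφ⟩ := (OX.theta_bijective (isAffineOpen_top V) Q.property i).2 ((OX.genSec _ ⊤).symm s)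
    simp only at hφ
    have hgen : DCoh.IsQCohD ((DerivedCategory.singleFunctor V.Modules i).obj ((OX.genF V).obj ⊤)) := fun q => by
      by_cases hq : q = i
      · subst hq
        exact OX.isQCoh_of_iso (((DerivedCategory.singleFunctorCompHomologyFunctorIso V.Modules q).app _).symm)
          (OX.isQCoh_of_iso (OX.genTopIso V).symm
            (Euler.isQuasicoherent_of_isFinLocFree (Euler.isFinLocFree_of_isInvertible Euler.isInvertible_structure)))
      · refine OX.isQCoh_of_isZero ?_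
        rcases lt_or_gt_of_ne hq with hlt | hgt
        · exact DerivedCategory.isZero_of_isGE _ i q hlt
        · exact DerivedCategory.isZero_of_isLE _ i q hgt
    let M : DCoh.DQCoh V := ⟨_, hgen⟩
    let ψ : M ⟶ Q := ObjectProperty.homMk φ
    have h0 : ψ = 0 := ((DQadj V).homEquiv M ((OX.resD j).obj K)).symm.injective
      ((hom_gen_eq_zero j hj K i (h i hi) _).trans (hom_gen_eq_zero j hj K i (h i hi) _).symm)
    have h1 : φ = 0 := congrArg (fun t => t.hom) h0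
    rw [h1, SiteDer.theta_zero] at hφ
    rw [← (OX.genSec _ ⊤).apply_symm_apply s, ← hφ]
    exact (OX.genSecAdd (DCoh.HD Q.obj i) ⊤).map_zero
  exact FunMor20.isZero_of_subsingleton_sections (DCoh.HD Q.obj i)

/-- `DQ` commutes with direct images from quasi-compact opens. -/
theorem nonempty_DQ_RR {U V : Scheme.{u}} [CompactSpace V] [QuasiSeparatedSpace V] [CompactSpace U]
    [QuasiSeparatedSpace U] (i : U ⟶ V) [IsOpenImmersion i] [QuasiCompact i] (F : DCoh.D U) :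
    Nonempty ((DQι V).obj ((OX.RR i).obj F) ≅ (OX.RR i).obj ((DQι U).obj F)) := by
  let L' : DCoh.DQCoh V ⥤ DCoh.DQCoh U :=
    (DCoh.IsQCohD (X := U)).lift (ObjectProperty.ι (DCoh.IsQCohD (X := V)) ⋙ OX.resD i)
      fun M => OX.isQCohD_resD i M.property
  let R' : DCoh.DQCoh U ⥤ DCoh.DQCoh V :=
    (DCoh.IsQCohD (X := V)).lift (ObjectProperty.ι (DCoh.IsQCohD (X := U)) ⋙ OX.RR i)
      fun M => OX.isQCohD_Rres i M.obj M.property
  let adj' : L' ⊣ R' := (OX.resDAdj i).restrictFullyFaithful (DCoh.IsQCohD (X := V)).fullyFaithfulι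
    (DCoh.IsQCohD (X := U)).fullyFaithfulι (Iso.refl _) (Iso.refl _)
  let a₁ := adj'.comp (DQadj U)
  let a₂ : L' ⋙ ObjectProperty.ι (DCoh.IsQCohD (X := U)) ⊣ OX.RR i ⋙ DQ V :=
    ((DQadj V).comp (OX.resDAdj i)).ofNatIsoLeft (Iso.refl _)
  exact ⟨(ObjectProperty.ι (DCoh.IsQCohD (X := V))).mapIso ((a₂.rightAdjointUniq a₁).app F)⟩

/-- The property to be propagated. -/
def P (X : Scheme.{u}) (W : X.Opens) : Prop :=
  ∀ (V : Scheme.{u}) [CompactSpace V] [QuasiSeparatedSpace V] (j : V ⟶ X) [IsOpenImmersion j],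
    j.opensRange = W → ∃ N : ℕ, ∀ (K : DCoh.D X) (a b : ℤ), (∀ i, (i < a ∨ b < i) → Hyp K i) →
      Amp ((DQι V).obj ((OX.resD j).obj K)) a (b + N)

theorem p_affine (W : X.Opens) (hW : IsAffineOpen W) : P X W := fun V _ _ j _ hj => by
  have h : IsAffineOpen (⊤ : V.Opens) := j.isAffineOpen_iff_of_isOpenImmersion.1 (by
    rwa [j.image_top_eq_opensRange, hj])
  haveI : IsAffine V := .of_isIso (Scheme.topIso V).inv (h := h)
  exact ⟨0, fun K a b h => by simpa using amp_affine j K a b h⟩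

theorem p_sup [QuasiSeparatedSpace X] (A B : X.Opens) (hAc : IsCompact (A : Set X)) (hBc : IsCompact (B : Set X))
    (hA : P X A) (hB : P X B) (hI : P X (A ⊓ B)) : P X (A ⊔ B) := fun V _ _ j _ hj => by
  let A' := j ⁻¹ᵁ A
  let B' := j ⁻¹ᵁ B
  let C' := A' ⊓ B'
  have hsub : ∀ O : X.Opens, O ≤ A ⊔ B → j ''ᵁ (j ⁻¹ᵁ O) = O := fun O hO => by
    rw [j.image_preimage_eq_opensRange_inf, hj]; exact inf_eq_right.2 hO
  have hrange : ∀ (O : X.Opens), O ≤ A ⊔ B → ((j ⁻¹ᵁ O).ι ≫ j).opensRange = O := fun O hO => by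
    rw [Scheme.Hom.opensRange_comp, Scheme.Opens.opensRange_ι, hsub O hO]
  have hcp : ∀ (O : X.Opens), O ≤ A ⊔ B → IsCompact (O : Set X) → IsCompact ((j ⁻¹ᵁ O : V.Opens) : Set V) :=
    fun O hO hc => by
      rw [j.isOpenEmbedding.isEmbedding.isCompact_iff]
      convert hc
      exact congrArg (fun Z : X.Opens => (Z : Set X)) (hsub O hO)
  have hC : C' = j ⁻¹ᵁ (A ⊓ B) := rfl
  have key : ∀ (O : X.Opens), O ≤ A ⊔ B → IsCompact (O : Set X) → P X O → ∃ N : ℕ, ∀ (K : DCoh.D X) (a b : ℤ),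
      (∀ i, (i < a ∨ b < i) → Hyp K i) → Amp ((DQι V).obj ((OX.RR (j ⁻¹ᵁ O).ι).obj
        ((OX.resD (j ⁻¹ᵁ O).ι).obj ((OX.resD j).obj K)))) a (b + N) := by
    intro O hO hOc hPO
    haveI : CompactSpace (j ⁻¹ᵁ O : V.Opens) := isCompact_iff_compactSpace.1 (hcp O hO hOc)
    haveI : QuasiSeparatedSpace ↥((j ⁻¹ᵁ O : V.Opens) : Scheme.{u}) :=
      (j ⁻¹ᵁ O).ι.isOpenEmbedding.quasiSeparatedSpace
    haveI : QuasiCompact (j ⁻¹ᵁ O).ι := quasiCompact_of_compactSpace _
    obtain ⟨N₁, h₁⟩ := hPO (j ⁻¹ᵁ O : V.Opens) ((j ⁻¹ᵁ O).ι ≫ j) (hrange O hO)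
    obtain ⟨N₂, h₂⟩ := exists_bound_RR (j ⁻¹ᵁ O).ι
    refine ⟨N₁ + N₂, fun K a b h i hi => ?_⟩
    obtain ⟨e⟩ := nonempty_DQ_RR (j ⁻¹ᵁ O).ι ((OX.resD (j ⁻¹ᵁ O).ι).obj ((OX.resD j).obj K))
    let e' := (OX.resDCompIso (j ⁻¹ᵁ O).ι j).app K
    refine IsZero.of_iso ?_ ((DerivedCategory.homologyFunctor V.Modules i).mapIso
      (e ≪≫ (OX.RR (j ⁻¹ᵁ O).ι).mapIso ((DQι _).mapIso e')))
    exact h₂ _ ((DQ _).obj _).property a (b + N₁) (h₁ K a b h) i (by push_cast at hi; omega)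
  obtain ⟨NA, hA'⟩ := key A le_sup_left hAc hA
  obtain ⟨NB, hB'⟩ := key B le_sup_right hBc hB
  obtain ⟨NC, hC'⟩ := key (A ⊓ B) (inf_le_left.trans le_sup_left)
    (QuasiSeparatedSpace.inter_isCompact _ _ A.2 hAc B.2 hBc) hI
  refine ⟨NA + NB + NC + 1, fun K a b h i hi => ?_⟩
  let E := (OX.resD j).obj K
  have hUV : A' ⊔ B' = ⊤ := by
    rw [eq_top_iff]
    intro x _
    have : j x ∈ A ⊔ B := hj ▸ ⟨x, rfl⟩
    exact this
  obtain ⟨f, g, d, hT⟩ := OX.exists_mvTriangle A' B' C' hUV rfl E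
  letI := (DQadj V).rightAdjointCommShift ℤ
  haveI := (DQadj V).commShift_of_leftAdjoint ℤ
  haveI := (DQadj V).isTriangulated_rightAdjoint
  have hT' := (DQι V).map_distinguished _ hT
  push_cast at hi
  refine (DerivedCategory.HomologySequence.exact₁ _ hT' (i - 1) i (by omega)).isZero_X₂
    (IsZero.eq_of_src ?_ _ _) (IsZero.eq_of_tgt ?_ _ _)
  · exact hC' K a b h (i - 1) (by omega)
  · let G := DQι V ⋙ DerivedCategory.homologyFunctor V.Modules i
    haveI := preservesBinaryBiproducts_of_preservesBiproducts G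
    exact IsZero.of_iso ((biprod_isZero_iff _ _).2 ⟨hA' K a b h i (by omega), hB' K a b h i (by omega)⟩)
      (G.mapBiprod _ _)

/-- The bound. -/
theorem exists_bound (X : Scheme.{u}) [CompactSpace X] [QuasiSeparatedSpace X] :
    ∃ N : ℕ, ∀ (K : DCoh.D X) (a b : ℤ), (∀ i, (i < a ∨ b < i) → Hyp K i) →
      Amp ((DQι X).obj K) a (b + N) := by
  obtain ⟨N, hN⟩ := compact_induction X (P X) p_sup p_affine X (𝟙 X) (Scheme.Hom.opensRange_of_isIso _)
  refine ⟨N, fun K a b h i hi => ?_⟩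
  let e : K ≅ (OX.resD (𝟙 X)).obj K :=
    ((Functor.leftUnitor _).symm ≪≫ Functor.isoWhiskerRight OX.mapDerivedIdIso.symm _ ≪≫
      DerCat.mapDerivedCompIso (𝟭 X.Modules) (Scheme.Modules.restrictFunctor (𝟙 X)) (𝟭 X.Modules)
        (Functor.leftUnitor _ ≪≫ Scheme.Modules.restrictFunctorId) ≪≫ OX.mapDerivedIdIso).symm.app K
  exact (hN K a b h i hi).of_iso ((DerivedCategory.homologyFunctor X.Modules i).mapIso ((DQι X).mapIso e))

end GrothLib.DQBound20
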